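import Mathlib
import Cfsg.Agent.Lib.Helper18.OPE.Defs
import Cfsg.Agent.Lib.Helper16.SpinG2

set_option autoImplicit false

/-!
# Project OME (designer helper8): definitions for S5990.
`PΩ⁻_{2d}(q)`, ALL `q` (characteristic 2 included), `d ≥ 4`, on the ELLIPTIC nondegenerate `m`-spaces, `m` even, `2 ≤ m ≤ 2d - 2`.
Twin of helper18's project OPE (S5974 + S5988): the abstract vocabulary (`QCtx`, `QTy`, `QHyp`, `QNDt`, `sg`, `Fits`) is OPE's,
the standard space is `quadFormMinus (d - 1) F a b` on `MI d = (Fin (d-1) ⊕ Fin (d-1)) ⊕ Fin 2`, of type `τ = -1`.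
-/

namespace Cfsg.Agent.Lib.helper8.OME

open Polynomial Module Cfsg.Agent.Lib.Helper13.S5955 Cfsg.Agent.Lib.helper15.S5972
  Cfsg.Agent.Lib.Helper18.OPE

/-- the index type of the standard minus space of dimension `2d` -/
abbrev MI (d : ℕ) : Type := (Fin (d - 1) ⊕ Fin (d - 1)) ⊕ Fin 2

/-- the standard minus form `Σ_{i<d-1} xᵢyᵢ + z₁² + a z₁z₂ + b z₂²` as a Mathlib quadratic form (helper16's `qfMinus`) -/
noncomputable abbrev Qm (d : ℕ) (F : Type*) [Field F] (a b : F) : QuadraticForm F (MI d → F) :=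
  Cfsg.Agent.Lib.Helper16.qfMinus (d - 1) F a b

theorem Qm_coe (d : ℕ) (F : Type*) [Field F] (a b : F) :
    ⇑(Qm d F a b) = Cfsg.quadFormMinus (d - 1) F a b := rfl

/-- the polar form of the standard minus form as a Mathlib bilinear form -/
noncomputable def stdM (d : ℕ) (F : Type*) [Field F] (a b : F) : LinearMap.BilinForm F (MI d → F) :=
  QuadraticMap.polarBilin (Qm d F a b)

theorem stdM_apply (d : ℕ) {F : Type*} [Field F] (a b : F) (u v : MI d → F) :
    stdM d F a b u v = QuadraticMap.polar (Cfsg.quadFormMinus (d - 1) F a b) u v := rfl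

/-- the hyperbolic `m`-spaces of the standard minus space (same shape as OPE's `HYP`) -/
abbrev HYPm (d m : ℕ) (F : Type*) [Field F] (a b : F) : Type _ :=
  {W : Submodule F (MI d → F) //
    (Module.finrank F ↥W = m ∧
      (∀ u ∈ W, u ≠ 0 → ∃ v ∈ W, QuadraticMap.polar (Cfsg.quadFormMinus (d - 1) F a b) u v ≠ 0) ∧
      ∃ U : Submodule F (MI d → F), U ≤ W ∧ 2 * Module.finrank F ↥U = m ∧
        ∀ u ∈ U, Cfsg.quadFormMinus (d - 1) F a b u = 0)}

/-- the elliptic `m`-spaces of the standard minus space, EXACTLY as in the frozen statement S5990 -/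
abbrev ELLm (d m : ℕ) (F : Type*) [Field F] (a b : F) : Type _ :=
  {W : Submodule F (MI d → F) //
    Module.finrank F ↥W = m ∧
      Cfsg.Geo.IsNondegenerateOn (QuadraticMap.polar (Cfsg.quadFormMinus (d - 1) F a b)) W ∧
      ¬ Cfsg.Geo.IsPlusTypeOn (Cfsg.quadFormMinus (d - 1) F a b) W}

/-- the totally singular `h`-spaces of the standard minus space -/
abbrev TSm (d h : ℕ) (F : Type*) [Field F] (a b : F) : Type _ :=
  {U : Submodule F (MI d → F) //
    Module.finrank F ↥U = h ∧ ∀ u ∈ U, Cfsg.quadFormMinus (d - 1) F a b u = 0}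

/-- the matrix `x` fixes a nondegenerate `m`-space of counting type `s` of the standard minus `2d`-space -/
def FixM {F : Type*} [Field F] [Fintype F] (d m : ℕ) (s : ℤ) (a b : F)
    (x : Matrix (MI d) (MI d) F) : Prop :=
  ∃ W : Submodule F (MI d → F), finrank F W = m ∧ SND (stdM d F a b) W ∧
    QTy (Qm d F a b) W s ∧ W.map (Matrix.toLin' x) ≤ W

/-- every element of order `r` of `PΩ⁻_{2d}(q)` (an element of `Ω⁻` with scalar `r`-th power, not scalar) fixes such a space -/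
def AllFixM (F : Type*) [Field F] [Fintype F] (d m : ℕ) (s : ℤ) (r : ℕ) (a b : F) : Prop :=
  ∀ x : GL (MI d) F, x ∈ Cfsg.Geo.omegaGL (Cfsg.quadFormMinus (d - 1) F a b) →
    (∃ z : F, ((x ^ r : GL (MI d) F) : Matrix (MI d) (MI d) F) = z • (1 : Matrix (MI d) (MI d) F)) →
    (∀ z : F, (x : Matrix (MI d) (MI d) F) ≠ z • (1 : Matrix (MI d) (MI d) F)) →
    FixM d m s a b (x : Matrix (MI d) (MI d) F)

/-- the `r`-odd part of the frozen right-hand side of S5990 -/
def RM (i c d m : ℕ) : Prop :=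
  (Odd i ∧ ((2 * d) % c = 0 ∨ (c ≤ m ∧ 0 < m % c ∧ m % c ≤ (2 * d) % c))) ∨
  (Even i ∧
    (((2 * d) % c = 0 ∧ (Even ((2 * d) / i) ∨ (m % c = 0 ∧ Odd (m / i)))) ∨
     (0 < (2 * d) % c ∧ i ≤ m ∧ ((0 < m % c ∧ m % c < (2 * d) % c) ∨ (m % c = 0 ∧ Odd (m / i)) ∨
                                 (m % c = (2 * d) % c ∧ Even ((2 * d + m - 2 * ((2 * d) % c)) / i))))))

/-- the necessary condition for `r ∣ #(hyperbolic 2h-spaces of the elliptic 2d-space)` (via the t.s. `h`-spaces: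
`r ∣ (q^(d-j) + 1)(q^(d-1-j) - 1)` for some `j < h`), in terms of `i = ord_r q` -/
def CHm (i d h : ℕ) : Prop :=
  ∃ j : ℕ, j < h ∧ ((Even i ∧ (d - j) % i = i / 2) ∨ i ∣ d - 1 - j)

/-- the necessary condition for `r ∣ #(elliptic 2h-spaces of the elliptic 2d-space)`:
`r ∣ #HYPm (2h-2)` or `r ∣ (q^(d-h+1) + 1)(q^(d-h) + 1)` -/
def CEm (i d h : ℕ) : Prop :=
  CHm i d (h - 1) ∨ (Even i ∧ ((d - h + 1) % i = i / 2 ∨ (d - h) % i = i / 2))

/-- the largest `A` for which `Ω⁻_{2d}(q)` contains an element of order `r` with `dim cycS = c A`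
(`c A ≤ 2d`, and `c A = 2d` only if `sg i A = -1`) -/
def AmaxM (i c d : ℕ) : ℕ :=
  if (2 * d) % c = 0 ∧ (Odd i ∨ Even (2 * d / i)) then 2 * d / c - 1 else 2 * d / c

end Cfsg.Agent.Lib.helper8.OME
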